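import Cfsg.Agent.ClMax99.SymIndex

/-!
Automorphisms of symmetric groups of degree at least seven are inner, and recognition of
transpositions by the order of their centralisers.
-/

set_option autoImplicit false

namespace Cfsg.Agent.SymRec38

open Equiv Equiv.Perm

variable {Ω : Type*} [Fintype Ω] [DecidableEq Ω]

theorem isSwap_conj {g : Perm Ω} (hg : g.IsSwap) (h : Perm Ω) : (h * g * h⁻¹).IsSwap := by
  obtain ⟨a, b, hab, rfl⟩ := hg
  exact ⟨h a, h b, h.injective.ne hab, (Equiv.swap_apply_apply h a b).symm⟩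

/-- A permutation of order two whose centraliser has the order of the centraliser of a
transposition is a transposition (degree at least seven). -/
theorem isSwap_of_card_centralizer (h7 : 7 ≤ Fintype.card Ω) {g t : Perm Ω} (ht : t.IsSwap)
    (hg1 : g ≠ 1) (hg2 : g * g = 1)
    (hcard : Nat.card (Subgroup.centralizer ({g} : Set (Perm Ω))) =
      Nat.card (Subgroup.centralizer ({t} : Set (Perm Ω)))) : g.IsSwap := by
  have hct : t.cycleType = {2} := by
    rw [ht.isCycle.cycleType, Equiv.Perm.card_support_eq_two.2 ht]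
  have hr := ClMax99.cycleType_of_sq (g := g) (by rw [sq, hg2])
  set k := Multiset.card g.cycleType
  have hk0 : k ≠ 0 := by
    intro hk
    rw [hk, Multiset.replicate_zero, Equiv.Perm.cycleType_eq_zero] at hr
    exact hg1 hr
  rcases eq_or_ne k 1 with hk | hk
  · refine Equiv.Perm.card_support_eq_two.1 ?_
    rw [← Equiv.Perm.sum_cycleType, hr, hk]
    simp
  · exfalso
    have hsum : 2 * k ≤ Fintype.card Ω := by
      have := Equiv.Perm.sum_cycleType g ▸ g.support.card_le_univ
      rw [hr] at this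
      simpa [mul_comm] using this
    rw [Equiv.Perm.nat_card_centralizer, Equiv.Perm.nat_card_centralizer, hct, hr] at hcard
    simp [Multiset.toFinset_replicate, hk0, mul_comm k 2] at hcard
    obtain ⟨h6, -⟩ := ClMax99.centralizer_count (n := Fintype.card Ω) (k := k) (by omega) hsum
      (by linarith)
    omega

theorem eq_of_stabilizer_eq (h7 : 7 ≤ Fintype.card Ω) {u v : Ω}
    (h : ∀ g : Perm Ω, g u = u ↔ g v = v) : u = v := by
  by_contra huv
  obtain ⟨z, -, hz⟩ := Finset.exists_mem_notMem_of_card_lt_card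
    (show ({u, v} : Finset Ω).card < (Finset.univ : Finset Ω).card by
      rw [Finset.card_univ]; exact lt_of_le_of_lt Finset.card_le_two (by omega))
  simp only [Finset.mem_insert, Finset.mem_singleton, not_or] at hz
  have := (h (swap v z)).mp (Equiv.swap_apply_of_ne_of_ne huv (Ne.symm hz.1))
  rw [Equiv.swap_apply_left] at this
  exact hz.2 this

/-- Automorphisms of `Perm Ω` are inner when `Ω` has at least seven points. -/
theorem exists_conj (h7 : 7 ≤ Fintype.card Ω) (θ : Perm Ω ≃* Perm Ω) :
    ∃ π : Perm Ω, ∀ g, θ g = π * g * π⁻¹ := by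
  classical
  have hsw : ∀ g : Perm Ω, g.IsSwap → (θ g).IsSwap := fun g hg =>
    (ClMax99.mulAut_isSwap_or θ hg).resolve_right (fun h => by omega)
  have hex : ∀ x : Ω, ∃ y : Ω, ∀ g, θ g x = x ↔ g y = y := by
    intro x
    obtain ⟨y, hy⟩ := ClMax99.eq_stabilizer_of_mulAut (by omega)
      (H := (MulAction.stabilizer (Perm Ω) x).comap θ.toMonoidHom) θ x (fun g => Iff.rfl) hsw
    exact ⟨y, fun g => SetLike.ext_iff.mp hy g⟩
  choose f hf using hex
  have hinj : Function.Injective f := fun x x' hxx' => eq_of_stabilizer_eq h7 fun g => by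
    obtain ⟨g', rfl⟩ := θ.surjective g
    rw [hf x, hf x', hxx']
  let φ : Perm Ω := Equiv.ofBijective f ⟨hinj, Finite.injective_iff_surjective.1 hinj⟩
  have hcomm : ∀ g x, f (θ g x) = g (f x) := by
    intro g x
    refine eq_of_stabilizer_eq h7 fun h => ?_
    rw [← hf (θ g x) h]
    have h2 : (g⁻¹ * h * g) (f x) = f x ↔ h (g (f x)) = g (f x) := by
      rw [Perm.mul_apply, Perm.mul_apply, Perm.inv_eq_iff_eq, eq_comm]
    rw [← h2, ← hf x (g⁻¹ * h * g), map_mul, map_mul, map_inv, Perm.mul_apply, Perm.mul_apply,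
      Perm.inv_eq_iff_eq, eq_comm]
  refine ⟨φ⁻¹, fun g => Equiv.ext fun x => ?_⟩
  rw [inv_inv, Perm.mul_apply, Perm.mul_apply, Perm.eq_inv_iff_eq]
  exact hcomm g x

end Cfsg.Agent.SymRec38
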